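import Groth.Agent.Lib.Helper19.NormEx.Defs
import Groth.Agent.Lib.Helper19.ClassTop

/-!
# Cover density of the affine free test objects (helper19, backup of (CD), S15384)
-/

set_option autoImplicit false
set_option linter.style.haveILetI false
set_option linter.unusedSectionVars false
set_option linter.unusedVariables false
universe u
open CategoryTheory CategoryTheory.Limits AlgebraicGeometry Opposite

namespace Groth.Agent.Helper19.NormEx

variable {X X' : Scheme.{u}} (f : X' ⟶ X)

theorem isCoverDense [IsFinite f] [Flat f] [LocallyOfFinitePresentation f] :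
    (FreeAff f).ι.IsCoverDense (QuotSh.J Scheme.fppfPrecoverage X) := by
  constructor
  intro T
  choose U hU hpU hfree using Groth.Agent.Helper19.NormUniq.exists_free_open f T
  let Z : T.left → Over X := fun p => Over.mk ((U p).ι ≫ T.hom)
  let g : ∀ p, Z p ⟶ T := fun p => Over.homMk (U p).ι rfl
  have hZ : ∀ p, FreeAff f (Z p) := fun p => ⟨hU p, hfree p⟩
  have hmem : Sieve.ofArrows Z g ∈ Scheme.zariskiTopology.over X T :=
    Groth.Agent.Lib.Helper19.ClassTop.ofArrows_mem_zariski_over Z g
      (fun p => by change IsOpenImmersion (U p).ι; infer_instance)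
      (fun x => ⟨x, by
        change x ∈ Set.range (U x).ι.base
        rw [Scheme.Opens.range_ι]
        exact hpU x⟩)
  have hle : Sieve.ofArrows Z g ≤ Sieve.coverByImage (FreeAff f).ι T := by
    rw [Sieve.ofArrows, Sieve.generate_le_iff]
    rintro _ _ ⟨p⟩
    exact ⟨⟨⟨Z p, hZ p⟩, 𝟙 _, g p, Category.id_comp _⟩⟩
  have hmem' : Sieve.ofArrows Z g ∈ QuotSh.J Scheme.fppfPrecoverage X T := by
    rw [GrothendieckTopology.mem_over_iff] at hmem ⊢
    exact Precoverage.toGrothendieck_mono Scheme.zariskiPrecoverage_le_fppfPrecoverage _ hmem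
  exact (QuotSh.J Scheme.fppfPrecoverage X).superset_covering hle hmem'

end Groth.Agent.Helper19.NormEx
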