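import Groth.Statements.S15384
import Groth.Agent.Lib.Helper19.NormUniq

/-!
# Existence of the norm map `f_* G_m ⟶ G_m` (helper19, S15384): definitions
-/

set_option autoImplicit false
set_option linter.style.haveILetI false
set_option linter.unusedSectionVars false
set_option linter.unusedVariables false
universe u
open CategoryTheory CategoryTheory.Limits AlgebraicGeometry Opposite

namespace Groth.Agent.Helper19.NormEx

variable {X X' : Scheme.{u}} (f : X' ⟶ X)

/-- functions on `T ×_X X'` as an algebra over functions on `T`. -/
noncomputable abbrev alg (T : Over X) : Algebra Γ(T.left, ⊤) Γ(pullback T.hom f, ⊤) :=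
  ((pullback.fst T.hom f).appTop).hom.toAlgebra

/-- affine test objects over which the base change of `f` is finite free. -/
def FreeAff : ObjectProperty (Over X) := fun T =>
  IsAffine T.left ∧ (letI := alg f T;
    Module.Finite Γ(T.left, ⊤) Γ(pullback T.hom f, ⊤) ∧
    Module.Free Γ(T.left, ⊤) Γ(pullback T.hom f, ⊤))

end Groth.Agent.Helper19.NormEx
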