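import Groth.Agent.Lib.Helper19.NormEx.Defs
import Groth.Prelude.Def_GmPts

/-!
# Existence of the norm map `f_* G_m ⟶ G_m` (helper19, S15384): assembly

The norm map is defined on the cover-dense full subcategory `FreeAff f` of affine test objects over
which `f` becomes finite free, by `Algebra.norm` on units of global functions, and extended to the
whole big site by `Functor.IsCoverDense.sheafHom`.
-/

set_option autoImplicit false
set_option linter.style.haveILetI false
set_option linter.unusedSectionVars false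
set_option linter.unusedVariables false
universe u
open CategoryTheory CategoryTheory.Limits AlgebraicGeometry Opposite MonObj

namespace Groth.Agent.Helper19.NormEx

open Groth.Agent.Helper19.NormUniq

variable {X X' : Scheme.{u}} (f : X' ⟶ X)

/-- norm commutes with base change (to be supplied). -/
def NBC : Prop :=
  ∀ {T T₁ : Over X} (φ : T₁ ⟶ T) (_ : FreeAff f T) (_ : FreeAff f T₁)
    (b : Γ(pullback T.hom f, ⊤)),
    @Algebra.norm Γ(T₁.left, ⊤) Γ(pullback T₁.hom f, ⊤) _ _ (alg f T₁)
        (((Over.pullback f).map φ).left.appTop b) =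
      φ.left.appTop (@Algebra.norm Γ(T.left, ⊤) Γ(pullback T.hom f, ⊤) _ _ (alg f T) b)

/-- the norm of a point of `f_* G_m` over `T`. -/
noncomputable def normFun (T : Over X) (t' : (Over.pullback f).obj T ⟶ Red.Gm X') : T ⟶ Red.Gm X :=
  GmPts.ptOfUnit (Units.map (@Algebra.norm Γ(T.left, ⊤) Γ(pullback T.hom f, ⊤) _ _ (alg f T))
    (GmPts.unitOfPt t' : (Γ(pullback T.hom f, ⊤))ˣ))

theorem gmFn_normFun (T : Over X) (t' : (Over.pullback f).obj T ⟶ Red.Gm X') :
    Red.gmFn (normFun f T t') =
      @Algebra.norm Γ(T.left, ⊤) Γ(pullback T.hom f, ⊤) _ _ (alg f T) (Red.gmFn t') := by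
  rw [← GmPts.val_unitOfPt, normFun, GmPts.unitOfPt_ptOfUnit]
  rfl

theorem gmFn_comp {S : Scheme.{u}} {T T' : Over S} (g : T' ⟶ T) (t : T ⟶ Red.Gm S) :
    Red.gmFn (g ≫ t) = g.left.appTop (Red.gmFn t) := by
  rw [← GmPts.val_unitOfPt, GmPts.unitOfPt_comp]
  rfl

theorem normFun_mul (T : Over X) (a b : (Over.pullback f).obj T ⟶ Red.Gm X') :
    normFun f T (a * b) = normFun f T a * normFun f T b := by
  apply gmFn_injective
  rw [GmPts.gmFn_mul, gmFn_normFun, gmFn_normFun, gmFn_normFun, GmPts.gmFn_mul, map_mul]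

theorem normFun_comp (hNBC : NBC f) {T T₁ : Over X} (φ : T₁ ⟶ T) (hT : FreeAff f T)
    (hT₁ : FreeAff f T₁) (t' : (Over.pullback f).obj T ⟶ Red.Gm X') :
    normFun f T₁ ((Over.pullback f).map φ ≫ t') = φ ≫ normFun f T t' := by
  apply gmFn_injective
  rw [gmFn_normFun, gmFn_comp, gmFn_comp, gmFn_normFun]
  exact hNBC φ hT hT₁ _

/-- the norm as an additive map on sections. -/
noncomputable def normAdd (T : Over X) :
    (CGrpSh3.pushGm Scheme.fppfPrecoverage f).obj.obj (op T) ⟶
      (CGrpSh2.Gm Scheme.fppfPrecoverage X).obj.obj (op T) :=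
  AddCommGrpCat.ofHom
    { toFun := fun x => ULift.up (Additive.ofMul (normFun f T x.down.toMul))
      map_zero' := by
        apply ULift.ext
        change Additive.ofMul (normFun f T (1 : (Over.pullback f).obj T ⟶ Red.Gm X')) = 0
        have h : normFun f T (1 : (Over.pullback f).obj T ⟶ Red.Gm X') = 1 := by
          apply gmFn_injective
          rw [gmFn_normFun, GmPts.gmFn_one, GmPts.gmFn_one, map_one]
        rw [h]
        rfl
      map_add' := fun x y => by
        apply ULift.ext
        change Additive.ofMul (normFun f T (x.down.toMul * y.down.toMul)) = _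
        rw [normFun_mul]
        rfl }

theorem normAdd_apply (T : Over X) (x : (CGrpSh3.pushGm Scheme.fppfPrecoverage f).obj.obj (op T)) :
    normAdd f T x = ULift.up (Additive.ofMul (normFun f T x.down.toMul)) := rfl

/-- the norm on the dense subcategory. -/
noncomputable def alpha (hNBC : NBC f) :
    (FreeAff f).ι.op ⋙ (CGrpSh3.pushGm Scheme.fppfPrecoverage f).obj ⟶
      (FreeAff f).ι.op ⋙ (CGrpSh2.Gm Scheme.fppfPrecoverage X).obj where
  app T := normAdd f T.unop.obj
  naturality T T₁ φ := by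
    apply AddCommGrpCat.hom_ext
    apply AddMonoidHom.ext
    intro x
    apply ULift.ext
    change Additive.ofMul (normFun f T₁.unop.obj ((Over.pullback f).map φ.unop.hom ≫ x.down.toMul)) =
      Additive.ofMul (φ.unop.hom ≫ normFun f T.unop.obj x.down.toMul)
    rw [normFun_comp f hNBC φ.unop.hom T.unop.property T₁.unop.property]

/-- the norm map. -/
noncomputable def normMap (hNBC : NBC f)
    (hCD : (FreeAff f).ι.IsCoverDense (QuotSh.J Scheme.fppfPrecoverage X)) :
    CGrpSh3.pushGm Scheme.fppfPrecoverage f ⟶ CGrpSh2.Gm Scheme.fppfPrecoverage X :=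
  haveI := hCD
  ⟨Functor.IsCoverDense.sheafHom (G := (FreeAff f).ι)
    (ℱ' := CGrpSh2.Gm Scheme.fppfPrecoverage X) (alpha f hNBC)⟩

theorem normMap_app (hNBC : NBC f)
    (hCD : (FreeAff f).ι.IsCoverDense (QuotSh.J Scheme.fppfPrecoverage X))
    (T : Over X) (hT : FreeAff f T) :
    (normMap f hNBC hCD).hom.app (op T) = normAdd f T := by
  haveI := hCD
  have h := Functor.IsCoverDense.sheafHom_restrict_eq (G := (FreeAff f).ι)
    (ℱ' := CGrpSh2.Gm Scheme.fppfPrecoverage X) (alpha f hNBC)
  exact congrArg (fun m => m.app (op (⟨T, hT⟩ : (FreeAff f).FullSubcategory))) h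

theorem isNormMap_normMap (hNBC : NBC f)
    (hCD : (FreeAff f).ι.IsCoverDense (QuotSh.J Scheme.fppfPrecoverage X)) :
    CGrpSh3.IsNormMap Scheme.fppfPrecoverage f (normMap f hNBC hCD) := by
  intro T hTaff I hfin hfree hcompat t'
  have hI : I = alg f T := by
    apply Algebra.algebra_ext
    intro a
    exact hcompat a
  subst hI
  have hT : FreeAff f T := ⟨hTaff, hfin, hfree⟩
  rw [CGrpSh3.normPt_def, normMap_app f hNBC hCD T hT, normAdd_apply]
  exact gmFn_normFun f T t'

theorem exists_normMap (hNBC : NBC f)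
    (hCD : (FreeAff f).ι.IsCoverDense (QuotSh.J Scheme.fppfPrecoverage X)) :
    ∃ N : CGrpSh3.pushGm Scheme.fppfPrecoverage f ⟶ CGrpSh2.Gm Scheme.fppfPrecoverage X,
      CGrpSh3.IsNormMap Scheme.fppfPrecoverage f N :=
  ⟨normMap f hNBC hCD, isNormMap_normMap f hNBC hCD⟩

end Groth.Agent.Helper19.NormEx
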