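import Mathlib

/-!
# The norm of a finite free algebra commutes with base change (helper19, for S15384)
-/

set_option autoImplicit false
universe u
open TensorProduct

namespace Groth.Agent.Helper19.NormEx

theorem norm_isPushout {A B A₁ B₁ : Type u} [CommRing A] [CommRing B] [CommRing A₁] [CommRing B₁]
    [Algebra A B] [Algebra A A₁] [Algebra A₁ B₁] [Algebra B B₁] [Algebra A B₁]
    [IsScalarTower A A₁ B₁] [IsScalarTower A B B₁] [h : Algebra.IsPushout A A₁ B B₁]
    [Module.Finite A B] [Module.Free A B] (b : B) :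
    Algebra.norm A₁ (algebraMap B B₁ b) = algebraMap A A₁ (Algebra.norm A b) := by
  have hbc : IsBaseChange A₁ (IsScalarTower.toAlgHom A B B₁).toLinearMap := h.out
  let e : A₁ ⊗[A] B ≃ₗ[A₁] B₁ := hbc.equiv
  have he : ∀ (a : A₁) (x : B), e (a ⊗ₜ x) = a • algebraMap B B₁ x := by
    intro a x
    exact hbc.equiv_tmul a x
  have hconj : LinearMap.mul A₁ B₁ (algebraMap B B₁ b) =
      e.conj ((LinearMap.mul A B b).baseChange A₁) := by
    apply LinearMap.ext
    intro y
    obtain ⟨z, rfl⟩ := e.surjective y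
    rw [LinearEquiv.conj_apply_apply, LinearEquiv.symm_apply_apply]
    induction z using TensorProduct.induction_on with
    | zero => simp
    | tmul a x =>
      rw [LinearMap.baseChange_tmul, he, he, LinearMap.mul_apply', LinearMap.mul_apply', map_mul,
        mul_smul_comm]
    | add z w hz hw => rw [map_add, map_add, map_add, map_add, hz, hw]
  rw [Algebra.norm_apply, Algebra.norm_apply]
  change LinearMap.det (LinearMap.mul A₁ B₁ (algebraMap B B₁ b)) = _
  rw [hconj]
  have h1 : (e.conj ((LinearMap.mul A B b).baseChange A₁)) =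
      (e : A₁ ⊗[A] B →ₗ[A₁] B₁) ∘ₗ ((LinearMap.mul A B b).baseChange A₁) ∘ₗ
        (e.symm : B₁ →ₗ[A₁] A₁ ⊗[A] B) := rfl
  rw [h1, LinearMap.det_conj, LinearMap.det_baseChange]
  rfl

end Groth.Agent.Helper19.NormEx
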