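import Groth.Agent.Lib.Helper19.NormEx.Main
import Groth.Agent.Lib.Helper19.NormEx.NormPushout
import Groth.Agent.Lib.Helper19.LRB.MorOpen

/-!
# Norm commutes with base change of affine free test objects (helper19, backup of (NBC), S15384)
-/

set_option autoImplicit false
set_option linter.style.haveILetI false
set_option linter.unusedSectionVars false
set_option linter.unusedVariables false
universe u
open CategoryTheory CategoryTheory.Limits AlgebraicGeometry Opposite

namespace Groth.Agent.Helper19.NormEx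

variable {X X' : Scheme.{u}} (f : X' ⟶ X)

theorem nbc [IsFinite f] : NBC f := by
  intro T T₁ φ hT hT₁ b
  obtain ⟨hTa, hfin, hfree⟩ := hT
  obtain ⟨hT₁a, -, -⟩ := hT₁
  haveI := hTa
  haveI := hT₁a
  haveI : IsAffine (pullback T.hom f) := inferInstance
  haveI : IsAffine (pullback T₁.hom f) := inferInstance
  have hpb := Groth.Agent.Helper19.LRB.isPullback_lf f φ
  have hpo := (isPushout_appTop_of_isPullback hpb).flip
  have hsq : (pullback.fst T.hom f).appTop ≫ (Groth.Agent.Helper1.MorSheaf.lf f φ).appTop =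
      φ.left.appTop ≫ (pullback.fst T₁.hom f).appTop := by
    rw [← Scheme.Hom.comp_appTop, ← Scheme.Hom.comp_appTop, Groth.Agent.Helper1.MorSheaf.lf_fst]
  letI iAB : Algebra Γ(T.left, ⊤) Γ(pullback T.hom f, ⊤) := alg f T
  letI iAA₁ : Algebra Γ(T.left, ⊤) Γ(T₁.left, ⊤) := φ.left.appTop.hom.toAlgebra
  letI iA₁B₁ : Algebra Γ(T₁.left, ⊤) Γ(pullback T₁.hom f, ⊤) := alg f T₁
  letI iBB₁ : Algebra Γ(pullback T.hom f, ⊤) Γ(pullback T₁.hom f, ⊤) :=
    (Groth.Agent.Helper1.MorSheaf.lf f φ).appTop.hom.toAlgebra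
  letI iAB₁ : Algebra Γ(T.left, ⊤) Γ(pullback T₁.hom f, ⊤) :=
    ((pullback.fst T.hom f).appTop ≫ (Groth.Agent.Helper1.MorSheaf.lf f φ).appTop).hom.toAlgebra
  haveI : IsScalarTower Γ(T.left, ⊤) Γ(pullback T.hom f, ⊤) Γ(pullback T₁.hom f, ⊤) :=
    IsScalarTower.of_algebraMap_eq (fun a => rfl)
  haveI : IsScalarTower Γ(T.left, ⊤) Γ(T₁.left, ⊤) Γ(pullback T₁.hom f, ⊤) :=
    IsScalarTower.of_algebraMap_eq (fun a => by
      have := congrArg (fun m => m.hom a) hsq
      exact this)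
  haveI : Algebra.IsPushout Γ(T.left, ⊤) Γ(T₁.left, ⊤) Γ(pullback T.hom f, ⊤)
      Γ(pullback T₁.hom f, ⊤) := CommRingCat.isPushout_iff_isPushout.mp hpo
  haveI := hfin
  haveI := hfree
  exact norm_isPushout (A := Γ(T.left, ⊤)) (B := Γ(pullback T.hom f, ⊤)) (A₁ := Γ(T₁.left, ⊤))
    (B₁ := Γ(pullback T₁.hom f, ⊤)) b

end Groth.Agent.Helper19.NormEx
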